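import Mathlib.GroupTheory.Transfer
import Mathlib.GroupTheory.IndexNormal
import Mathlib.GroupTheory.PGroup
import Mathlib.GroupTheory.Sylow
import Mathlib.GroupTheory.QuotientGroup.Basic
import Mathlib.GroupTheory.Perm.Cycle.Type
import Mathlib.Data.ZMod.Basic
import Mathlib.Algebra.Group.TypeTags.Finite
import Mathlib.Tactic

/-! Subgroups of index two. -/

set_option autoImplicit false
set_option linter.unusedSectionVars false

namespace Cfsg.Agent.PermGp.S3Even

variable {G : Type*} [Group G] [Finite G]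

theorem exists_index_two_of_hom_two_group {Q : Type*} [Group Q] [Finite Q] (f : G →* Q)
    (hf : Function.Surjective f) {k : ℕ} (hQ : Nat.card Q = 2 ^ (k + 1)) :
    ∃ K : Subgroup G, K.index = 2 := by
  haveI : Fact (Nat.Prime 2) := ⟨Nat.prime_two⟩
  obtain ⟨M, hM⟩ := Sylow.exists_subgroup_card_pow_prime 2 (G := Q) (n := k)
    (hQ ▸ pow_dvd_pow 2 (Nat.le_succ k))
  refine ⟨M.comap f, ?_⟩
  rw [Subgroup.index_comap_of_surjective _ hf]
  have h := M.card_mul_index
  rw [hM, hQ, pow_succ] at h
  exact Nat.eq_of_mul_eq_mul_left (pow_pos two_pos k) h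

theorem exists_index_two_of_even_comm {Q : Type*} [Group Q] [Finite Q]
    (hcomm : ∀ a b : Q, a * b = b * a) (heven : Even (Nat.card Q)) (f : G →* Q)
    (hf : Function.Surjective f) : ∃ K : Subgroup G, K.index = 2 := by
  haveI : Fact (Nat.Prime 2) := ⟨Nat.prime_two⟩
  let sq : Q →* Q :=
    { toFun := fun a => a * a
      map_one' := one_mul 1
      map_mul' := fun a b => by
        show a * b * (a * b) = a * a * (b * b)
        rw [mul_assoc, ← mul_assoc b, hcomm b a, mul_assoc a b, ← mul_assoc] }
  haveI hn : sq.range.Normal := ⟨fun n hn g => by rw [hcomm g n, mul_inv_cancel_right]; exact hn⟩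
  have hexp : IsPGroup 2 (Q ⧸ sq.range) := by
    intro x
    induction x using QuotientGroup.induction_on with | H a => ?_
    refine ⟨1, ?_⟩
    rw [← QuotientGroup.mk_pow, QuotientGroup.eq_one_iff]
    exact ⟨a, by simp [sq, pow_two]⟩
  obtain ⟨k, hk⟩ := hexp.exists_card_eq
  rcases k with _ | k
  · exfalso
    have htop : sq.range = ⊤ := by
      rw [← Subgroup.index_eq_one, Subgroup.index_eq_card, hk, pow_zero]
    have hsurj : Function.Surjective sq := MonoidHom.range_eq_top.mp htop
    obtain ⟨a, ha⟩ := exists_prime_orderOf_dvd_card' (G := Q) 2 (even_iff_two_dvd.mp heven)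
    have hinj := Finite.injective_iff_surjective.mpr hsurj
    have h1 : sq a = sq 1 := by
      rw [map_one]
      show a * a = 1
      rw [← pow_two, ← ha, pow_orderOf_eq_one]
    rw [hinj h1, orderOf_one] at ha
    exact absurd ha (by norm_num)
  · exact exists_index_two_of_hom_two_group ((QuotientGroup.mk' sq.range).comp f)
      ((QuotientGroup.mk'_surjective _).comp hf) hk

theorem exists_index_two_of_cyclic_sylow (heven : Even (Nat.card G)) (P : Sylow 2 G)
    (hP : IsCyclic P) : ∃ K : Subgroup G, K.index = 2 := by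
  haveI : Fact (Nat.Prime 2) := ⟨Nat.prime_two⟩
  have hmin : (Nat.card G).minFac = 2 :=
    Nat.minFac_eq_two_iff _ |>.mpr (even_iff_two_dvd.mp heven)
  have hcen : Subgroup.normalizer (P : Set G) ≤ Subgroup.centralizer (P : Set G) :=
    IsCyclic.normalizer_le_centralizer hmin hP
  let τ := MonoidHom.transferSylow P hcen
  have hcompl := MonoidHom.ker_transferSylow_isComplement' P hcen
  obtain ⟨k, hk⟩ := P.isPGroup'.exists_card_eq
  rcases k with _ | k
  · exfalso
    have h2 : 2 ∣ Nat.card P := P.dvd_card_of_dvd_card (even_iff_two_dvd.mp heven)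
    rw [hk, pow_zero] at h2
    exact absurd h2 (by norm_num)
  · haveI := τ.normal_ker
    refine exists_index_two_of_hom_two_group (QuotientGroup.mk' τ.ker) (QuotientGroup.mk'_surjective _)
      (k := k) ?_
    rw [← Subgroup.index_eq_card]
    exact (hcompl.symm.index_eq_card).trans hk

theorem zmod_two_mul_self : ∀ a : Multiplicative (ZMod 2), a * a = 1 := by decide

/-- An automorphism of order two fixes one of the subgroups of index two. -/
theorem exists_invariant_index_two (σ : MulAut G) (hσ : ∀ x, σ (σ x) = x)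
    (h : ∃ K : Subgroup G, K.index = 2) : ∃ K : Subgroup G, K.index = 2 ∧ ∀ x ∈ K, σ x ∈ K := by
  classical
  haveI : Fact (Nat.Prime 2) := ⟨Nat.prime_two⟩
  let X := G →* Multiplicative (ZMod 2)
  haveI : Finite X := Finite.of_injective (fun f => (f : G → Multiplicative (ZMod 2))) DFunLike.coe_injective
  haveI := Fintype.ofFinite X
  have hsq : ∀ a : Multiplicative (ZMod 2), a * a = 1 := zmod_two_mul_self
  have hX : IsPGroup 2 X := fun f => ⟨1, MonoidHom.ext fun x => by
    rw [pow_one, pow_two, MonoidHom.mul_apply, MonoidHom.one_apply, hsq]⟩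
  obtain ⟨K, hK⟩ := h
  haveI : K.Normal := Subgroup.normal_of_index_eq_two hK
  have hne : ∃ χ : X, χ ≠ 1 := by
    have hQ : Nat.card (G ⧸ K) = 2 := (Subgroup.index_eq_card K).symm.trans hK
    haveI : IsCyclic (G ⧸ K) := isCyclic_of_prime_card (p := 2) hQ
    let e : G ⧸ K ≃* Multiplicative (ZMod 2) := mulEquivOfPrimeCardEq (p := 2) hQ (by simp)
    refine ⟨e.toMonoidHom.comp (QuotientGroup.mk' K), fun hχ => ?_⟩
    obtain ⟨x, hx⟩ : ∃ x, x ∉ K := by
      by_contra! hall
      rw [show K = ⊤ from eq_top_iff.mpr fun x _ => hall x, Subgroup.index_top] at hK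
      exact absurd hK (by norm_num)
    apply hx
    rw [← QuotientGroup.eq_one_iff]
    exact e.injective ((DFunLike.congr_fun hχ x).trans (map_one e).symm)
  obtain ⟨χ₀, hχ₀⟩ := hne
  let Φ : Equiv.Perm X :=
    { toFun := fun f => f.comp σ.toMonoidHom
      invFun := fun f => f.comp σ.toMonoidHom
      left_inv := fun f => MonoidHom.ext fun x => congrArg f (hσ x)
      right_inv := fun f => MonoidHom.ext fun x => congrArg f (hσ x) }
  have hΦ : Φ ^ 2 ^ 1 = 1 := Equiv.ext fun f => by
    rw [pow_one, pow_two]; exact Φ.left_inv f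
  have hmod := Equiv.Perm.card_compl_support_modEq (p := 2) hΦ
  have h2 : 2 ∣ Fintype.card X := by
    obtain ⟨k, hk⟩ := hX.exists_card_eq
    rcases k with _ | k
    · rw [pow_zero, Nat.card_eq_one_iff_unique] at hk
      haveI := hk.1
      exact absurd (Subsingleton.elim χ₀ 1) hχ₀
    · rw [← Nat.card_eq_fintype_card, hk]
      exact dvd_pow_self 2 (Nat.succ_ne_zero k)
  have h1 : (1 : X) ∈ Φ.supportᶜ := by
    rw [Finset.mem_compl, Equiv.Perm.notMem_support]
    exact MonoidHom.ext fun _ => rfl
  have hcard : 1 < Φ.supportᶜ.card := by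
    have h3 := Finset.card_pos.mpr ⟨_, h1⟩
    have h4 : Φ.supportᶜ.card % 2 = Fintype.card X % 2 := hmod
    omega
  obtain ⟨χ, hχ, hχ1⟩ := Finset.exists_mem_ne hcard (1 : X)
  rw [Finset.mem_compl, Equiv.Perm.notMem_support] at hχ
  refine ⟨χ.ker, ?_, fun x hx => ?_⟩
  · rw [Subgroup.index_ker]
    have h5 : Nat.card χ.range ∣ 2 := by
      have := Subgroup.card_subgroup_dvd_card χ.range
      simpa using this
    refine ((Nat.dvd_prime Nat.prime_two).mp h5).resolve_left fun h6 => hχ1 ?_
    exact MonoidHom.range_eq_bot_iff.mp (Subgroup.eq_bot_of_card_eq _ h6)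
  · exact (DFunLike.congr_fun hχ x).trans hx

end Cfsg.Agent.PermGp.S3Even
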