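import Mathlib.GroupTheory.SpecificGroups.Cyclic.Basic
import Cfsg.Agent.Lib.PermGp.NearFieldLinear.Degrees
import Cfsg.Agent.Lib.PermGp.SharplyThreeEven.IndexTwo
import Cfsg.Agent.S0686

/-! Regular linear groups with at most one subgroup of order three. -/

set_option autoImplicit false
set_option linter.unusedSectionVars false

namespace Cfsg.Agent.PermGp.S3Even

open NFLin

/-- At most one subgroup of order three. -/
def UniqueThree (G : Type*) [Group G] : Prop :=
  ∀ a b : G, a ^ 3 = 1 → a ≠ 1 → b ^ 3 = 1 → b ∈ Subgroup.zpowers a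


theorem sl25_not_unique : ∃ a b : Matrix.SpecialLinearGroup (Fin 2) (ZMod 5),
    a ^ 3 = 1 ∧ a ≠ 1 ∧ b ^ 3 = 1 ∧ b ≠ 1 ∧ b ≠ a ∧ b ≠ a * a := by
  refine ⟨⟨!![0, -1; 1, -1], by rw [Matrix.det_fin_two_of]; decide⟩,
    ⟨!![0, 1; -1, -1], by rw [Matrix.det_fin_two_of]; decide⟩, Subtype.ext ?_, fun h => absurd (congrArg Subtype.val h) ?_,
      Subtype.ext ?_, fun h => absurd (congrArg Subtype.val h) ?_,
      fun h => absurd (congrArg Subtype.val h) ?_, fun h => absurd (congrArg Subtype.val h) ?_⟩ <;>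
    decide +kernel

theorem UniqueThree.mem_iff {G : Type*} [Group G] [Finite G] (hu : UniqueThree G) {a b : G}
    (ha : a ^ 3 = 1) (ha1 : a ≠ 1) (hb : b ^ 3 = 1) : b = 1 ∨ b = a ∨ b = a * a := by
  obtain ⟨n, rfl⟩ := Subgroup.mem_zpowers_iff.mp (hu a b ha ha1 hb)
  rw [← Int.emod_add_mul_ediv n 3, zpow_add, zpow_mul,
    show a ^ (3 : ℤ) = 1 by exact_mod_cast ha, one_zpow, mul_one]
  have h1 := Int.emod_nonneg n (show (3 : ℤ) ≠ 0 by norm_num)
  have h2 := Int.emod_lt_of_pos n (show (0 : ℤ) < 3 by norm_num)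
  obtain ⟨r, hr⟩ : ∃ r : ℕ, n % 3 = r := ⟨(n % 3).toNat, (Int.toNat_of_nonneg h1).symm⟩
  rw [hr, zpow_natCast]
  have h3 : r < 3 := by omega
  interval_cases r
  · exact Or.inl (pow_zero a)
  · exact Or.inr (Or.inl (pow_one a))
  · exact Or.inr (Or.inr (pow_two a))

variable {p : ℕ} [Fact p.Prime] {V : Type*} [AddCommGroup V] [Module (ZMod p) V] [Finite V]
  {H : Subgroup (V ≃ₗ[ZMod p] V)}

/-- Without the exceptional property there is an irreducible cyclic normal subgroup. -/
theorem exists_irreducible_cyclic (hI : ¬ Exceptional H) :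
    ∃ A : Subgroup H, A.Normal ∧ IsCyclic A ∧
      ∀ W : Submodule (ZMod p) V, Inv (ops A) W → W = ⊥ ∨ W = ⊤ := by
  unfold Exceptional at hI
  push Not at hI
  obtain ⟨A, hn, hc, h⟩ := hI
  refine ⟨A, hn, hc, fun W hW => ?_⟩
  by_contra! hW'
  obtain ⟨a, ha, v, hv, hne⟩ := h W hW'.1 hW'.2
  exact hne (inv_ops.mp hW a ha v hv)

theorem centralizer_cyclic (hreg : RegNZ H) [Nontrivial V] (A : Subgroup H)
    (hA : ∀ W : Submodule (ZMod p) V, Inv (ops A) W → W = ⊥ ∨ W = ⊤) :
    IsCyclic (Subgroup.centralizer (A : Set H)) :=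
  isCyclic_of_minimal hreg A (minimal_top hA) _ (inv_top _)
    (fun k hk b hb => (Subgroup.mem_centralizer_iff.mp hk b hb).symm)

theorem exceptional_data (hreg : RegNZ H) [Nontrivial V] (hI : Exceptional H) (hu : UniqueThree H) :
    ∃ A : Subgroup H, A.Normal ∧ Module.finrank (ZMod p) V = 2 ∧ A.index ∣ 24 ∧ Nat.card A ∣ p - 1 ∧
      p ≠ 2 ∧ p + 1 ∣ 24 ∧ 3 ∣ Nat.card A := by
  classical
  haveI := finite_group (H := H)
  have hfinA : {B : Subgroup H | B.Normal ∧ IsMulCommutative B}.Finite := Set.toFinite _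
  obtain ⟨A, ⟨hAn, hAc⟩, hmax'⟩ := hfinA.exists_maximalFor id _
    ⟨(⊥ : Subgroup H), inferInstance, isMulCommutative_iff.mpr fun a b => Subsingleton.elim _ _⟩
  have hmax : ∀ B : Subgroup H, B.Normal → IsMulCommutative B → A ≤ B → B = A := fun B hB hBc hle =>
    le_antisymm (hmax' ⟨hB, hBc⟩ hle) hle
  haveI := hAn
  obtain ⟨-, hCna⟩ := centralizer_spec hreg hI A hAc hmax
  obtain ⟨N, hNn, hle, hna, hmin⟩ := exists_nonabelian_minimal _ hCna
  haveI := hNn
  rcases Cfsg.Agent.S0686.result H hreg hI A hAn hAc hmax N hNn hle hna hmin with ⟨⟨e⟩⟩ | ⟨⟨e⟩⟩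
  · obtain ⟨hdim, hidx, hAd, hp2, hp3, hp1⟩ := quaternion_data hreg hI A hAc hmax N hle hna e
    refine ⟨A, hAn, hdim, hidx, hAd, hp2, hp1, ?_⟩
    have hp' := (Fact.out : p.Prime)
    have hH : Nat.card H = p ^ 2 - 1 := hdim ▸ natCard_group hreg
    have h3H : 3 ∣ Nat.card H := by
      have hle24 := Nat.le_of_dvd (by norm_num) hp1
      have h2 := hp'.two_le
      have hp23 : p ≤ 23 := by omega
      rw [hH]
      interval_cases p
      all_goals first
        | omega
        | exact absurd hp' (by norm_num)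
        | (exfalso; revert hp1; norm_num; done)
        | norm_num
    haveI : Fact (Nat.Prime 3) := ⟨Nat.prime_three⟩
    obtain ⟨r, hr⟩ := exists_prime_orderOf_dvd_card' (G := H) 3 h3H
    have hr3 : r ^ 3 = 1 := hr ▸ pow_orderOf_eq_one r
    have hr1 : r ≠ 1 := fun h => by rw [h, orderOf_one] at hr; omega
    haveI hRn : (Subgroup.zpowers r).Normal := by
      refine ⟨fun x hx g => ?_⟩
      obtain ⟨n, rfl⟩ := hx
      show g * r ^ n * g⁻¹ ∈ Subgroup.zpowers r
      rw [← conj_zpow]
      exact Subgroup.zpow_mem _ (hu r _ hr3 hr1 (by rw [conj_pow, hr3, mul_one, mul_inv_cancel])) n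
    have hRN : Subgroup.zpowers r ⊓ N = ⊥ := by
      refine Subgroup.inf_eq_bot_of_coprime ?_
      rw [Nat.card_zpowers, hr, Nat.card_congr e.toEquiv, Nat.card_eq_fintype_card, QuaternionGroup.card]
      norm_num
    have hrA : r ∈ A := by
      rw [← centralizer_noncomm_eq hreg A hAc hmax N hle hna, Subgroup.mem_centralizer_iff]
      exact fun n hn => (Subgroup.commute_of_normal_of_disjoint (Subgroup.zpowers r) N inferInstance
        inferInstance (disjoint_iff.mpr hRN) r n (Subgroup.mem_zpowers r) hn).eq.symm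
    rw [← hr, ← Subgroup.orderOf_mk r hrA]
    exact orderOf_dvd_natCard _
  · exfalso
    obtain ⟨a, b, ha, ha1, hb, hb1, hba, hba2⟩ := sl25_not_unique
    let f : Matrix.SpecialLinearGroup (Fin 2) (ZMod 5) →* H := N.subtype.comp e.symm.toMonoidHom
    have hf : Function.Injective f := N.subtype_injective.comp e.symm.injective
    rcases hu.mem_iff (a := f a) (b := f b) (by rw [← map_pow, ha, map_one])
        (fun h => ha1 (hf (h.trans (map_one f).symm))) (by rw [← map_pow, hb, map_one]) with h | h | h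
    · exact hb1 (hf (h.trans (map_one f).symm))
    · exact hba (hf h)
    · exact hba2 (hf (h.trans (map_mul f a a).symm))

/-- Such a group has a subgroup of index two. -/
theorem exists_index_two (hreg : RegNZ H) [Nontrivial V] (hu : UniqueThree H) (hp2 : p ≠ 2) :
    ∃ K : Subgroup H, K.index = 2 := by
  classical
  haveI := finite_group (H := H)
  have hp' := (Fact.out : p.Prime)
  have heven : Even (Nat.card H) := by
    rw [natCard_group hreg]
    exact Nat.Odd.sub_odd ((hp'.odd_of_ne_two hp2).pow) odd_one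
  by_cases hI : Exceptional H
  · obtain ⟨A, hAn, hdim, hidx, hAd, -, hp1, h3⟩ := exceptional_data hreg hI hu
    haveI := hAn
    have hH : Nat.card H = p ^ 2 - 1 := hdim ▸ natCard_group hreg
    have hle24 := Nat.le_of_dvd (by norm_num) hp1
    have hp23 : p ≤ 23 := by omega
    have h7 : p = 7 := by
      have h3p : 3 ∣ p - 1 := h3.trans hAd
      have := hp'.two_le
      interval_cases p
      all_goals first
        | rfl
        | omega
        | (exfalso; revert hp1; norm_num; done)
        | (exfalso; revert h3p; norm_num; done)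
    subst h7
    have hidx8 : A.index = 8 := by
      have h48 := A.card_mul_index
      rw [hH] at h48
      have := Nat.le_of_dvd (by norm_num) hidx
      have := Nat.le_of_dvd (by norm_num) hAd
      obtain ⟨m, hm⟩ := h3
      rw [hm] at h48 hAd
      have hm2 : m ≤ 2 := by omega
      interval_cases m <;> norm_num at h48 <;>
        first | omega | (rw [show A.index = 16 by omega] at hidx; norm_num at hidx)
    exact exists_index_two_of_hom_two_group (QuotientGroup.mk' A) (QuotientGroup.mk'_surjective _)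
      (k := 2) (by rw [← Subgroup.index_eq_card, hidx8]; norm_num)
  · obtain ⟨A, hAn, hAcyc, hA⟩ := exists_irreducible_cyclic hI
    haveI := hAn
    have hC := centralizer_cyclic hreg A hA
    set C := Subgroup.centralizer (A : Set H) with hCdef
    by_cases h2 : 2 ∣ C.index
    · let φ : H →* MulAut A := MulAut.conjNormal
      have hker : φ.ker = C := by
        ext g
        rw [MonoidHom.mem_ker, hCdef, Subgroup.mem_centralizer_iff, MulEquiv.ext_iff]
        constructor
        · intro h n hn
          have := congrArg Subtype.val (h ⟨n, hn⟩)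
          rw [MulAut.conjNormal_apply, MulAut.one_apply, mul_inv_eq_iff_eq_mul] at this
          exact this.symm
        · intro h n
          refine Subtype.ext ?_
          rw [MulAut.conjNormal_apply, MulAut.one_apply, mul_inv_eq_iff_eq_mul]
          exact (h n n.2).symm
      refine exists_index_two_of_even_comm (Q := φ.range) (fun a b => Subtype.ext ?_) ?_ φ.rangeRestrict
        φ.rangeRestrict_surjective
      · exact (IsCyclic.mulAutMulEquiv A).injective (by rw [Subgroup.coe_mul, Subgroup.coe_mul, map_mul, map_mul, mul_comm])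
      · rw [even_iff_two_dvd, ← Subgroup.index_ker, hker]
        exact h2
    · haveI : Fact (Nat.Prime 2) := ⟨Nat.prime_two⟩
      obtain ⟨P⟩ : Nonempty (Sylow 2 H) := inferInstance
      refine exists_index_two_of_cyclic_sylow heven P ?_
      have hPC : (P : Subgroup H) ≤ C := by
        intro x hx
        rw [← QuotientGroup.eq_one_iff]
        obtain ⟨k, hk⟩ := P.isPGroup' ⟨x, hx⟩
        have h1 : orderOf (x : H ⧸ C) ∣ 2 ^ k := orderOf_dvd_of_pow_eq_one (by
          rw [← QuotientGroup.mk_pow, show x ^ 2 ^ k = 1 from congrArg Subtype.val hk, QuotientGroup.mk_one])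
        have h3 : orderOf (x : H ⧸ C) ∣ C.index := by
          rw [Subgroup.index_eq_card]; exact orderOf_dvd_natCard _
        exact orderOf_eq_one_iff.mp (Nat.eq_one_of_dvd_coprimes
          (Nat.Coprime.pow_left k ((Nat.prime_two.coprime_iff_not_dvd).mpr h2)) h1 h3)
      exact (Subgroup.subgroupOfEquivOfLe hPC).isCyclic.mp inferInstance

theorem not_exceptional_of_odd (hreg : RegNZ H) [Nontrivial V] (hu : UniqueThree H)
    (hodd : Odd (Module.finrank (ZMod p) V)) : ¬ Exceptional H := fun hI => by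
  obtain ⟨A, -, hdim, -⟩ := exceptional_data hreg hI hu
  rw [hdim] at hodd
  exact absurd hodd (by decide)

end Cfsg.Agent.PermGp.S3Even
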