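import Cfsg.Agent.Lib.PermGp.SharplyThree
import Cfsg.Agent.Lib.PermGp.SharplyThreeEven.Linear
import Cfsg.Agent.S0728

/-! The two-point stabilisers of sharply triply transitive groups as linear groups. -/

set_option autoImplicit false
set_option linter.unusedSectionVars false

namespace Cfsg.Agent.PermGp.S3Even

open MulAction NFLin

universe u

variable {α : Type u} [Fintype α] [DecidableEq α] {G : Subgroup (Equiv.Perm α)} {i o e : α}
  {T : Subgroup G} {p j : ℕ}

theorem prime_ne_two (D : TransData G i T p j) (heven : Even (Fintype.card α)) : p ≠ 2 := by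
  rintro rfl
  rw [D.card] at heven
  obtain ⟨k, hk⟩ := heven
  have h2 : 2 ∣ 2 ^ j := dvd_pow_self 2 (by have := D.pos; omega)
  omega

/-- The translations as a vector space. -/
theorem exists_module (D : TransData G i T p j) :
    ∃ (V : Type u) (_ : AddCommGroup V) (_ : Module (ZMod p) V) (_ : Finite V) (τ : V → G),
      (∀ v, τ v ∈ T) ∧ (∀ t ∈ T, ∃ v, τ v = t) ∧ Function.Injective τ ∧
      τ 0 = 1 ∧ ∀ v w, τ (v + w) = τ v * τ w := by
  letI : CommGroup T :=
    { (inferInstance : Group T) with mul_comm := fun a b => Subtype.ext (D.comm a a.2 b b.2) }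
  have hexp : ∀ x : Additive T, p • x = 0 := fun x =>
    Additive.toMul.injective (Subtype.ext (D.exp (Additive.toMul x : T) (Additive.toMul x).2))
  exact ⟨Additive T, Additive.addCommGroup, AddCommGroup.zmodModule hexp, inferInstance,
    fun v => ((Additive.toMul v : T) : G), fun v => (Additive.toMul v).2,
    fun t ht => ⟨Additive.ofMul ⟨t, ht⟩, rfl⟩, fun v w h => Additive.toMul.injective (Subtype.ext h),
    rfl, fun v w => rfl⟩

/-- The two-point stabiliser as a regular linear group on the translations. -/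
theorem linear_model (S : Sharp3 G) (D : TransData G i T p j) [Fact p.Prime] (hio : i ≠ o) :
    ∃ (V : Type u) (_ : AddCommGroup V) (_ : Module (ZMod p) V) (_ : Finite V) (_ : Nontrivial V)
      (Hl : Subgroup (V ≃ₗ[ZMod p] V)) (π : ↥(stabilizer G i ⊓ stabilizer G o) ≃* Hl) (τ : V → G),
      RegNZ Hl ∧ Module.finrank (ZMod p) V = j ∧ (∀ v, τ v ∈ T) ∧ (∀ t ∈ T, ∃ v, τ v = t) ∧
      Function.Injective τ ∧ (∀ v w, τ (v + w) = τ v * τ w) ∧
      ∀ (h : ↥(stabilizer G i ⊓ stabilizer G o)) (v : V), τ (op (π h) v) = h * τ v * (h : G)⁻¹ := by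
  classical
  obtain ⟨V, iV, iM, iF, τ, hτT, hτs, hτi, hτ0, hτadd⟩ := exists_module D
  set H₀ := stabilizer G i ⊓ stabilizer G o with hH₀
  have memH : ∀ (h : H₀), (h : G) • i = i ∧ (h : G) • o = o := fun h => Subgroup.mem_inf.mp h.2
  choose lin0 hlin using fun (h : H₀) (x : V) => hτs _ (D.conj h (memH h).1 _ (hτT x))
  let lin : H₀ → (V →ₗ[ZMod p] V) := fun h =>
    AddMonoidHom.toZModLinearMap p (AddMonoidHom.mk' (lin0 h) (fun x y => hτi (by
      rw [hlin, hτadd, hτadd, hlin, hlin]; group)))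
  replace hlin : ∀ (h : H₀) (x : V), τ (lin h x) = h * τ x * (h : G)⁻¹ := hlin
  have hmul : ∀ (h k : H₀) (x : V), lin (h * k) x = lin h (lin k x) := fun h k x =>
    hτi ((by rw [hlin, hlin, hlin, Subgroup.coe_mul]; group))
  have hone : ∀ x : V, lin 1 x = x := fun x =>
    hτi ((by rw [hlin, Subgroup.coe_one]; group))
  let ρ : H₀ →* (V ≃ₗ[ZMod p] V) :=
    { toFun := fun h => LinearEquiv.ofLinear (lin h) (lin h⁻¹)
        (LinearMap.ext fun x => by rw [LinearMap.comp_apply, ← hmul, mul_inv_cancel, hone]; rfl)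
        (LinearMap.ext fun x => by rw [LinearMap.comp_apply, ← hmul, inv_mul_cancel, hone]; rfl)
      map_one' := LinearEquiv.ext hone
      map_mul' := fun h k => LinearEquiv.ext (hmul h k) }
  have hne : ∀ x : V, x ≠ 0 →
      τ x • o ≠ o ∧ τ x • o ≠ i := by
    intro x hx
    refine ⟨fun h => hx (hτi (Eq.trans ?_ hτ0.symm)), fun h => hio ?_⟩
    · exact D.semi _ (hτT x) o hio.symm h
    · exact (MulAction.injective _ (h.trans (D.fix _ (hτT x)).symm)).symm
  have hconj : ∀ (h : H₀) (x : V),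
      τ (lin h x) • o = (h : G) • τ x • o := fun h x => by
    rw [hlin, D.conj_smul_base (memH h).2]
  obtain ⟨x₀, hx₀⟩ : ∃ x : α, x ≠ i ∧ x ≠ o := by
    by_contra! hall
    have h2 : Fintype.card α ≤ 2 := by
      rw [← Finset.card_univ]
      refine (Finset.card_le_card (fun y _ => ?_)).trans (Finset.card_le_two (a := i) (b := o))
      by_cases hy : y = i
      · simp [hy]
      · simp [hall y hy]
    have := D.card
    have := D.prime.two_le
    have := Nat.le_self_pow (show j ≠ 0 by have := D.pos; omega) p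
    omega
  obtain ⟨t₀, ht₀, ht₀o⟩ := D.exists_eq o x₀ hio.symm hx₀.1
  obtain ⟨v₀, hv₀⟩ := hτs t₀ ht₀
  haveI : Nontrivial V := ⟨⟨v₀, 0, fun h => hx₀.2 (by
    rw [← ht₀o, ← hv₀, h, hτ0, one_smul])⟩⟩
  have hreg : ∀ v w : V, v ≠ 0 → w ≠ 0 → ∃! h : H₀, lin h v = w := by
    intro v w hv hw
    obtain ⟨hv1, hv2⟩ := hne v hv
    obtain ⟨hw1, hw2⟩ := hne w hw
    obtain ⟨g, gi, go, gv⟩ := S.trans i o (τ v • o) i o (τ w • o)
      hio hv2.symm hv1.symm hio hw2.symm hw1.symm
    refine ⟨⟨g, Subgroup.mem_inf.mpr ⟨gi, go⟩⟩, hτi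
      (D.translate_inj hio.symm (hτT _) (hτT w) (by rw [hconj]; exact gv)), ?_⟩
    intro k hk
    have h1 := hconj k v
    rw [hk] at h1
    refine Subtype.ext (inv_mul_eq_one.mp (S.fix (g⁻¹ * (k : G)) i o _ hio hv2.symm hv1.symm ?_ ?_ ?_)).symm
    · rw [mul_smul, (memH k).1, inv_smul_eq_iff, gi]
    · rw [mul_smul, (memH k).2, inv_smul_eq_iff, go]
    · rw [mul_smul, ← h1, ← gv, inv_smul_smul]
  have hρ : Function.Injective ρ := fun h k hhk => by
    obtain ⟨v, hv⟩ := exists_ne (0 : V)
    have hkv : lin k v ≠ 0 := fun e => hv (by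
      have := hmul k⁻¹ k v
      rw [inv_mul_cancel, hone, e, map_zero] at this
      exact this)
    exact (hreg v _ hv hkv).unique (LinearEquiv.congr_fun hhk v) rfl
  refine ⟨V, inferInstance, inferInstance, inferInstance, inferInstance, ρ.range,
    MonoidHom.ofInjective hρ, τ, ?_, ?_, hτT, hτs, hτi, hτadd, fun h v => hlin h v⟩
  · intro v w hv hw
    obtain ⟨h, hh, huniq⟩ := hreg v w hv hw
    refine ⟨⟨ρ h, h, rfl⟩, hh, ?_⟩
    rintro ⟨_, k, rfl⟩ hk
    exact Subtype.ext (congrArg ρ (huniq k hk))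
  · have hcard : Nat.card (V) = p ^ j := by
      rw [Nat.card_congr (Equiv.ofBijective (fun v : V => (⟨τ v • o, fun h =>
        hio (MulAction.injective _ (h.trans (D.fix _ (hτT v)).symm)).symm⟩ : {x : α // x ≠ i}))
        ⟨fun v w h => hτi (D.translate_inj hio.symm (hτT v) (hτT w) (congrArg Subtype.val h)), fun x => by
          obtain ⟨t, ht, hto⟩ := D.exists_eq o x hio.symm x.2
          obtain ⟨v, rfl⟩ := hτs t ht
          exact ⟨v, Subtype.ext hto⟩⟩),
        Nat.card_eq_fintype_card, Fintype.card_subtype_compl, Fintype.card_subtype_eq, D.card,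
        Nat.add_sub_cancel]
    rw [natCard_space (p := p)] at hcard
    exact Nat.pow_right_injective D.prime.two_le hcard

/-- The model has at most one subgroup of order three. -/
theorem uniqueThree_of_model (S : Sharp3 G) (heven : Even (Fintype.card α)) (hio : i ≠ o) (hie : i ≠ e)
    (hoe : o ≠ e) {X : Type*} [Group X] (π : ↥(stabilizer G i ⊓ stabilizer G o) ≃* X) : UniqueThree X := by
  intro a b ha ha1 hb
  by_cases hb1 : b = 1
  · rw [hb1]; exact one_mem _
  have aux : ∀ x : X, x ^ 3 = 1 → ((π.symm x : G)) * (π.symm x : G) * (π.symm x : G) = 1 := fun x hx => by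
    have h : (π.symm x) ^ 3 = 1 := by rw [← map_pow, hx, map_one]
    simpa [pow_succ, pow_zero] using congrArg Subtype.val h
  have ne : ∀ x : X, x ≠ 1 → (π.symm x : G) ≠ 1 := fun x hx h => hx (by
    have : π.symm x = 1 := Subtype.ext h
    simpa using congrArg π this)
  obtain ⟨n, hn⟩ := Subgroup.mem_zpowers_iff.mp
    (S0728.unique_order_three S heven hio hie hoe (aux a ha) (ne a ha1) (π.symm a).2.1 (π.symm a).2.2
      (aux b hb) (ne b hb1) (π.symm b).2.1 (π.symm b).2.2)
  refine ⟨n, π.symm.injective (Subtype.ext ?_)⟩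
  show (π.symm (a ^ n) : G) = _
  rw [map_zpow, SubgroupClass.coe_zpow, hn]

/-- A sharply triply transitive group of even degree has a subgroup of index two in the
two-point stabiliser. -/
theorem exists_index_two_stab (S : Sharp3 G) (heven : Even (Fintype.card α)) (hio : i ≠ o) (hie : i ≠ e)
    (hoe : o ≠ e) : ∃ K : Subgroup ↥(stabilizer G i ⊓ stabilizer G o), K.index = 2 := by
  have h3 : 3 ≤ Fintype.card α := by
    have := Finset.card_le_univ ({i, o, e} : Finset α)
    rwa [Finset.card_eq_three.mpr ⟨i, o, e, hio, hie, hoe, rfl⟩] at this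
  obtain ⟨T, p, j, D⟩ := S.exists_translations h3 i
  haveI := Fact.mk D.prime
  obtain ⟨V, iV, iM, iF, iN, Hl, π, τ, hreg, -⟩ := linear_model S D (o := o) hio
  obtain ⟨K, hK⟩ := exists_index_two hreg (uniqueThree_of_model S heven hio hie hoe π) (prime_ne_two D heven)
  refine ⟨K.comap π.toMonoidHom, ?_⟩
  rw [Subgroup.index_comap_of_surjective _ π.surjective, hK]

end Cfsg.Agent.PermGp.S3Even
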