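import Mathlib.Algebra.Algebra.Subalgebra.Basic
import Mathlib.RingTheory.LittleWedderburn
import Cfsg.Agent.Lib.PermGp.SharplyThreeEven.Linear

/-! An element inducing an automorphism of order two on an irreducible normal abelian subgroup. -/

set_option autoImplicit false
set_option linter.unusedSectionVars false

namespace Cfsg.Agent.PermGp.S3Even

open NFLin

variable {p : ℕ} [Fact p.Prime] {V : Type*} [AddCommGroup V] [Module (ZMod p) V] [Finite V]
  {H : Subgroup (V ≃ₗ[ZMod p] V)}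

theorem op_eq_of_eq {a b : H} (h : a = b) : op a = op b := congrArg op h

theorem even_finrank_of_involution [Nontrivial V] (hp2 : p ≠ 2) (D : Subgroup H)
    [D.Normal] (hD : ∀ a ∈ D, ∀ b ∈ D, a * b = b * a)
    (hirr : ∀ W : Submodule (ZMod p) V, Inv (ops D) W → W = ⊥ ∨ W = ⊤) (h : H)
    (h1 : h ∉ Subgroup.centralizer (D : Set H)) (h2 : h * h ∈ Subgroup.centralizer (D : Set H)) :
    Even (Module.finrank (ZMod p) V) := by
  classical
  set K := Subalgebra.centralizer (ZMod p) (ops D) with hK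
  have memK : ∀ {x : Module.End (ZMod p) V}, x ∈ K ↔ ∀ d ∈ D, op d * x = x * op d := fun {x} => by
    rw [hK, Subalgebra.mem_centralizer_iff]
    exact ⟨fun h d hd => h _ ⟨d, hd, rfl⟩, by rintro h _ ⟨d, hd, rfl⟩; exact h d hd⟩
  have hinj : ∀ x ∈ K, x ≠ 0 → Function.Injective x := by
    intro x hx hx0
    rw [← LinearMap.ker_eq_bot]
    refine (hirr _ ?_).resolve_right fun h => hx0 (LinearMap.ker_eq_top.mp h)
    rintro _ ⟨d, hd, rfl⟩ v hv
    rw [LinearMap.mem_ker, ← Module.End.mul_apply, ← memK.mp hx d hd, Module.End.mul_apply,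
      LinearMap.mem_ker.mp hv, map_zero]
  have hopK : ∀ c ∈ Subgroup.centralizer (D : Set H), op c ∈ K := fun c hc => memK.mpr fun d hd => by
    rw [← op_mul, ← op_mul, Subgroup.mem_centralizer_iff.mp hc d hd]
  haveI : Finite (Module.End (ZMod p) V) := Finite.of_injective (fun f => (f : V → V)) DFunLike.coe_injective
  obtain ⟨v₁, hv₁⟩ := exists_ne (0 : V)
  haveI : NoZeroDivisors K := ⟨fun {a b} hab => by
    by_contra! hne
    have ha : (a : Module.End (ZMod p) V) ≠ 0 := fun e => hne.1 (Subtype.ext e)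
    refine hne.2 (Subtype.ext (LinearMap.ext fun v => hinj a a.2 ha ?_))
    have := LinearMap.congr_fun (congrArg Subtype.val hab) v
    simpa using this⟩
  haveI : Nontrivial K := ⟨⟨1, 0, fun e => hv₁ (by
    have := LinearMap.congr_fun (congrArg Subtype.val e) v₁
    simpa using this)⟩⟩
  haveI : IsDomain K := @NoZeroDivisors.to_isDomain _ (Subalgebra.toRing _) _ _
  have hcomm : ∀ x y : K, x * y = y * x := (Finite.isDomain_to_isField K).mul_comm
  let ev : K →ₗ[ZMod p] V :=
    { toFun := fun x => (x : Module.End (ZMod p) V) v₁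
      map_add' := fun x y => rfl
      map_smul' := fun c x => rfl }
  have hev : Function.Bijective ev := by
    constructor
    · intro x y hxy
      by_contra hne
      have hd : ((x - y : K) : Module.End (ZMod p) V) ≠ 0 := fun e => hne (sub_eq_zero.mp (Subtype.ext e))
      refine hv₁ (hinj _ (x - y).2 hd ?_)
      rw [map_zero]
      show (x : Module.End (ZMod p) V) v₁ - (y : Module.End (ZMod p) V) v₁ = 0
      exact sub_eq_zero.mpr hxy
    · rw [← LinearMap.range_eq_top]
      refine (hirr _ ?_).resolve_left fun e => hv₁ ?_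
      · rintro _ ⟨d, hd, rfl⟩ _ ⟨x, rfl⟩
        exact ⟨⟨op d, hopK d (Subgroup.mem_centralizer_iff.mpr fun b hb => hD b hb d hd)⟩ * x, rfl⟩
      · have : v₁ ∈ LinearMap.range ev := ⟨1, rfl⟩
        rwa [e, Submodule.mem_bot] at this
  have hdim : Module.finrank (ZMod p) K = Module.finrank (ZMod p) V :=
    (LinearEquiv.ofBijective ev hev).finrank_eq
  have hτmem : ∀ x ∈ K, op h * x * op h⁻¹ ∈ K := by
    intro x hx
    rw [memK]
    intro d hd
    have hd' : h⁻¹ * d * h ∈ D := by simpa using Subgroup.Normal.conj_mem ‹_› d hd h⁻¹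
    calc op d * (op h * x * op h⁻¹) = op (d * h) * x * op h⁻¹ := by rw [op_mul]; simp only [mul_assoc]
    _ = op (h * (h⁻¹ * d * h)) * x * op h⁻¹ := by rw [op_eq_of_eq (show d * h = h * (h⁻¹ * d * h) by group)]
    _ = op h * (op (h⁻¹ * d * h) * x) * op h⁻¹ := by rw [op_mul h]; simp only [mul_assoc]
    _ = op h * (x * op (h⁻¹ * d * h)) * op h⁻¹ := by rw [memK.mp hx _ hd']
    _ = op h * x * op (h⁻¹ * d * h * h⁻¹) := by rw [op_mul _ h⁻¹]; simp only [mul_assoc]
    _ = op h * x * op (h⁻¹ * d) := by rw [mul_inv_cancel_right]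
    _ = _ := by rw [op_mul]; simp only [mul_assoc]
  let θ : K →ₗ[ZMod p] K :=
    { toFun := fun x => ⟨op h * x * op h⁻¹, hτmem x x.2⟩
      map_add' := fun x y => Subtype.ext (by simp [mul_add, add_mul])
      map_smul' := fun c x => Subtype.ext (by simp) }
  have hθmul : ∀ x y, θ (x * y) = θ x * θ y := fun x y => Subtype.ext (by
    show op h * ((x : Module.End (ZMod p) V) * y) * op h⁻¹ = (op h * x * op h⁻¹) * (op h * y * op h⁻¹)
    rw [show (op h * x * op h⁻¹) * (op h * y * op h⁻¹) =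
      op h * x * (op h⁻¹ * op h) * y * op h⁻¹ by simp only [mul_assoc],
      ← op_mul, inv_mul_cancel, op_one, mul_one]
    simp only [mul_assoc])
  have hθ2 : ∀ x, θ (θ x) = x := fun x => Subtype.ext (by
    show op h * (op h * x * op h⁻¹) * op h⁻¹ = (x : Module.End (ZMod p) V)
    have hc : (⟨op (h * h), hopK _ h2⟩ : K) * x = x * ⟨op (h * h), hopK _ h2⟩ := hcomm _ _
    have hc' : op (h * h) * (x : Module.End (ZMod p) V) = x * op (h * h) := congrArg Subtype.val hc
    calc _ = (op h * op h) * x * (op h⁻¹ * op h⁻¹) := by simp only [mul_assoc]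
    _ = (x : Module.End (ZMod p) V) * op (h * h * (h⁻¹ * h⁻¹)) := by
      rw [← op_mul, ← op_mul, hc', mul_assoc, ← op_mul]
    _ = x := by rw [show h * h * (h⁻¹ * h⁻¹) = 1 by group, op_one, mul_one])
  let P := LinearMap.ker (θ - LinearMap.id)
  let M := LinearMap.ker (θ + LinearMap.id)
  have memP : ∀ x, x ∈ P ↔ θ x = x := fun x => by simp [P, sub_eq_zero]
  have memM : ∀ x, x ∈ M ↔ θ x = -x := fun x => by simp [M, add_eq_zero_iff_eq_neg]
  obtain ⟨c, hc, hne⟩ : ∃ c ∈ Subgroup.centralizer (D : Set H), h * c * h⁻¹ ≠ c := by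
    by_contra! hall
    refine h1 (Subgroup.mem_centralizer_iff.mpr fun d hd => ?_)
    have := hall d (Subgroup.mem_centralizer_iff.mpr fun b hb => hD b hb d hd)
    exact (mul_inv_eq_iff_eq_mul.mp this).symm
  have hc' : h * c * h⁻¹ ∈ Subgroup.centralizer (D : Set H) := Subgroup.Normal.conj_mem inferInstance c hc h
  let δ : K := ⟨op c, hopK c hc⟩ - ⟨op (h * c * h⁻¹), hopK _ hc'⟩
  have hθc : θ ⟨op c, hopK c hc⟩ = ⟨op (h * c * h⁻¹), hopK _ hc'⟩ := Subtype.ext (by
    show op h * op c * op h⁻¹ = _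
    rw [← op_mul, ← op_mul])
  have hδM : δ ∈ M := by
    rw [memM, map_sub, hθc, ← hθc, hθ2, neg_sub, hθc]
  have hδ : δ ≠ 0 := by
    intro e
    refine hne ?_
    have e' := congrArg Subtype.val (sub_eq_zero.mp e)
    refine Subtype.ext (LinearEquiv.ext fun v => ?_)
    exact (LinearMap.congr_fun e' v).symm
  have hPM : P ⊓ M = ⊥ := by
    rw [Submodule.eq_bot_iff]
    intro x hx
    obtain ⟨hxp, hxm⟩ := Submodule.mem_inf.mp hx
    have h3 : (2 : ZMod p) • x = 0 := by
      rw [two_smul]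
      nth_rewrite 2 [← (memP x).mp hxp]
      rw [(memM x).mp hxm, add_neg_cancel]
    refine (smul_eq_zero.mp h3).resolve_left fun h4 => hp2 ?_
    have h5 : ((2 : ℕ) : ZMod p) = 0 := by exact_mod_cast h4
    rw [ZMod.natCast_eq_zero_iff] at h5
    exact (Nat.prime_dvd_prime_iff_eq (Fact.out) Nat.prime_two).mp h5
  have h20 : (2 : ZMod p) ≠ 0 := fun h4 => hp2 (by
    have h5 : ((2 : ℕ) : ZMod p) = 0 := by exact_mod_cast h4
    rw [ZMod.natCast_eq_zero_iff] at h5
    exact (Nat.prime_dvd_prime_iff_eq (Fact.out) Nat.prime_two).mp h5)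
  have hPMtop : P ⊔ M = ⊤ := by
    rw [eq_top_iff]
    intro x _
    rw [Submodule.mem_sup]
    refine ⟨(2 : ZMod p)⁻¹ • (x + θ x), P.smul_mem _ ((memP _).mpr (by rw [map_add, hθ2, add_comm])),
      (2 : ZMod p)⁻¹ • (x - θ x), M.smul_mem _ ((memM _).mpr (by rw [map_sub, hθ2, neg_sub])), ?_⟩
    rw [← smul_add, add_add_sub_cancel, ← two_smul (ZMod p), inv_smul_smul₀ h20]
  let f : P →ₗ[ZMod p] M :=
    { toFun := fun x => ⟨δ * x, (memM _).mpr (by
        rw [hθmul, (memM δ).mp hδM, (memP _).mp x.2]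
        exact Subtype.ext (neg_mul _ _))⟩
      map_add' := fun x y => Subtype.ext (mul_add _ _ _)
      map_smul' := fun a x => Subtype.ext (mul_smul_comm a δ _) }
  let g : M →ₗ[ZMod p] P :=
    { toFun := fun x => ⟨δ * x, (memP _).mpr (by
        rw [hθmul, (memM δ).mp hδM, (memM _).mp x.2]
        exact Subtype.ext (neg_mul_neg _ _))⟩
      map_add' := fun x y => Subtype.ext (mul_add _ _ _)
      map_smul' := fun a x => Subtype.ext (mul_smul_comm a δ _) }
  have hf : Function.Injective f := fun x y e => Subtype.ext (mul_left_cancel₀ hδ (congrArg Subtype.val e))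
  have hg : Function.Injective g := fun x y e => Subtype.ext (mul_left_cancel₀ hδ (congrArg Subtype.val e))
  have hle := LinearMap.finrank_le_finrank_of_injective hf
  have hge := LinearMap.finrank_le_finrank_of_injective hg
  have hsum := Submodule.finrank_sup_add_finrank_inf_eq P M
  rw [hPM, hPMtop, finrank_bot, finrank_top, hdim] at hsum
  exact ⟨Module.finrank (ZMod p) P, by omega⟩

/-- Numerical bound separating the irreducible subgroups. -/
theorem pow_sub_one_mul_sq_lt {p k j : ℕ} (hp : 3 ≤ p) (hk : 1 ≤ k) (hkj : 2 * k ≤ j) (hj : Odd j) :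
    (p ^ k - 1) * (j * j) < p ^ j - 1 := by
  obtain ⟨m, rfl⟩ := hj
  have hm : 1 ≤ m := by omega
  have hkey : ∀ m : ℕ, 1 ≤ m → (2 * m + 1) * (2 * m + 1) ≤ 3 ^ (m + 1) := by
    intro m hm
    induction m, hm using Nat.le_induction with
    | base => norm_num
    | succ m hm ih =>
      rw [pow_succ]
      nlinarith
  have h1 : (2 * m + 1) * (2 * m + 1) ≤ p ^ (2 * m + 1 - k) :=
    (hkey m hm).trans ((Nat.pow_le_pow_left hp _).trans (Nat.pow_le_pow_right (by omega) (by omega)))
  have h2 : p ^ k * p ^ (2 * m + 1 - k) = p ^ (2 * m + 1) := by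
    rw [← pow_add]; congr 1; omega
  have h3 : 1 ≤ p ^ k := Nat.one_le_pow _ _ (by omega)
  obtain ⟨a, ha⟩ : ∃ a, p ^ k = a + 1 := ⟨p ^ k - 1, by omega⟩
  have h4 : 9 ≤ (2 * m + 1) * (2 * m + 1) := by nlinarith
  rw [ha, Nat.add_sub_cancel]
  have h5 : (a + 1) * ((2 * m + 1) * (2 * m + 1)) ≤ p ^ (2 * m + 1) := by
    rw [← h2, ha]
    exact Nat.mul_le_mul_left _ h1
  rw [add_mul, one_mul] at h5
  omega

end Cfsg.Agent.PermGp.S3Even
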