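import Mathlib.GroupTheory.SpecificGroups.Cyclic.Basic
import Cfsg.Agent.Lib.PermGp.SharplyThreePGL
import Cfsg.Agent.Lib.PermGp.SharplyThreeEven.Bridge
import Cfsg.Agent.Lib.PermGp.SharplyThreeEven.Semilinear

/-! Sharply triply transitive groups of degree `p ^ f + 1` with `p` and `f` odd. -/

set_option autoImplicit false
set_option linter.unusedSectionVars false

namespace Cfsg.Agent.PermGp.S3Even

open MulAction NFLin

/-- An invariant irreducible cyclic normal subgroup with small index makes the group cyclic. -/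
theorem cyclic_of_involution {p : ℕ} [Fact p.Prime] {V : Type*} [AddCommGroup V] [Module (ZMod p) V]
    [Finite V] [Nontrivial V] {H : Subgroup (V ≃ₗ[ZMod p] V)} (hreg : RegNZ H) (hu : UniqueThree H)
    (hp2 : p ≠ 2) (hodd : Odd (Module.finrank (ZMod p) V)) (σ : MulAut H) (hσ : ∀ x, σ (σ x) = x)
    (hfix : Nat.card {x : H // σ x = x} ≤ 2) : IsCyclic H := by
  classical
  haveI := finite_group (H := H)
  have hp3 : 3 ≤ p := by
    have := (Fact.out : p.Prime).two_le
    omega
  set j := Module.finrank (ZMod p) V with hj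
  obtain ⟨A, hAn, hAcyc, hA⟩ := exists_irreducible_cyclic (not_exceptional_of_odd hreg hu hodd)
  haveI := hAn
  set C₀ := Subgroup.centralizer (A : Set H) with hC₀
  have hC₀cyc : IsCyclic C₀ := centralizer_cyclic hreg A hA
  have hidx : C₀.index ≤ j := by
    have h := index_centralizer_le hreg A hAcyc (minimal_top hA)
    rwa [finrank_top] at h
  let D := C₀ ⊓ C₀.comap σ.toMonoidHom
  haveI hDn : D.Normal := inferInstance
  have hidxD : D.index ≤ j * j := by
    refine (Subgroup.index_inf_le (H := C₀) (K := C₀.comap σ.toMonoidHom)).trans ?_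
    rw [Subgroup.index_comap_of_surjective _ σ.surjective]
    exact Nat.mul_le_mul hidx hidx
  have hDσ : ∀ x ∈ D, σ x ∈ D := fun x hx => Subgroup.mem_inf.mpr
    ⟨(Subgroup.mem_inf.mp hx).2, by
      rw [Subgroup.mem_comap]
      show σ (σ x) ∈ C₀
      rw [hσ]; exact (Subgroup.mem_inf.mp hx).1⟩
  have hDcomm : ∀ a ∈ D, ∀ b ∈ D, a * b = b * a := fun a ha b hb => by
    letI := hC₀cyc.commGroup
    exact congrArg Subtype.val (mul_comm (⟨a, (Subgroup.mem_inf.mp ha).1⟩ : C₀) ⟨b, (Subgroup.mem_inf.mp hb).1⟩)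
  have hDcyc : IsCyclic D := isCyclic_of_comm hreg D hDcomm
  have hDirr : ∀ W : Submodule (ZMod p) V, Inv (ops D) W → W = ⊥ ∨ W = ⊤ := by
    intro W hW
    by_contra! hW'
    obtain ⟨W₀, hle, h0⟩ := exists_minimal_le (ops D) W hW'.1 hW
    have hne : W₀ ≠ ⊤ := fun e => hW'.2 (eq_top_iff.mpr (e ▸ hle))
    have hk := two_mul_finrank_le hreg D h0 hne
    have hk1 : 1 ≤ Module.finrank (ZMod p) W₀ := by
      obtain ⟨u, hu, hu0⟩ := Submodule.exists_mem_ne_zero_of_ne_bot h0.1
      haveI : Nontrivial W₀ := ⟨⟨⟨u, hu⟩, 0, fun e => hu0 (congrArg Subtype.val e)⟩⟩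
      exact Module.finrank_pos
    have hp : 2 ≤ p := by omega
    have hq : 2 ≤ p ^ Module.finrank (ZMod p) W₀ := hp.trans (Nat.le_self_pow (by omega) p)
    have hD1 := Nat.le_of_dvd (by omega) (card_dvd_pow_finrank_sub_one hreg D h0.2.1)
    have hlt := pow_sub_one_mul_sq_lt (j := j) hp3 hk1 hk hodd
    have hH := natCard_group (H := H) hreg
    rw [← hj] at hH
    have : Nat.card H ≤ (p ^ Module.finrank (ZMod p) W₀ - 1) * (j * j) := by
      rw [← D.card_mul_index]
      exact Nat.mul_le_mul hD1 hidxD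
    omega
  set C := Subgroup.centralizer (D : Set H) with hC
  have hCcyc : IsCyclic C := centralizer_cyclic hreg D hDirr
  -- `σ` is trivial modulo `C`
  let σD : MulAut D :=
    { toFun := fun x => ⟨σ x, hDσ x x.2⟩
      invFun := fun x => ⟨σ x, hDσ x x.2⟩
      left_inv := fun x => Subtype.ext (hσ x)
      right_inv := fun x => Subtype.ext (hσ x)
      map_mul' := fun x y => Subtype.ext (map_mul σ (x : H) y) }
  have hkey : ∀ h : H, h⁻¹ * σ h ∈ C := by
    intro h
    rw [hC, Subgroup.mem_centralizer_iff]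
    intro d hd
    have hcomm : σD * MulAut.conjNormal h = MulAut.conjNormal h * σD :=
      (IsCyclic.mulAutMulEquiv D).injective (by rw [map_mul, map_mul, mul_comm])
    have h1 := congrArg Subtype.val (DFunLike.congr_fun hcomm ⟨σ d, hDσ d hd⟩)
    simp only [MulAut.mul_apply, MulAut.conjNormal_apply] at h1
    change σ (h * σ d * h⁻¹) = h * σ (σ d) * h⁻¹ at h1
    rw [map_mul, map_mul, map_inv, hσ] at h1
    calc d * (h⁻¹ * σ h) = h⁻¹ * (h * d * h⁻¹) * σ h := by group
    _ = h⁻¹ * (σ h * d * (σ h)⁻¹) * σ h := by rw [h1]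
    _ = _ := by group
  -- counting
  let c : H → C := fun h => ⟨h⁻¹ * σ h, hkey h⟩
  let F := {x : H // σ x = x}
  have hsec : ∀ h, c (Function.invFun c (c h)) = c h := fun h => Function.invFun_eq ⟨h, rfl⟩
  let Ψ : H → C × F := fun h => (c h, ⟨h * (Function.invFun c (c h))⁻¹, by
    set k := Function.invFun c (c h)
    have e : k⁻¹ * σ k = h⁻¹ * σ h := congrArg Subtype.val (hsec h)
    rw [map_mul, map_inv]
    calc σ h * (σ k)⁻¹ = h * (h⁻¹ * σ h) * (k⁻¹ * σ k)⁻¹ * k⁻¹ := by group
    _ = h * k⁻¹ := by rw [e]; group⟩)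
  have hΨ : Function.Injective Ψ := fun a b e => by
    have e1 : c a = c b := (Prod.ext_iff.mp e).1
    have e2 : a * (Function.invFun c (c a))⁻¹ = b * (Function.invFun c (c b))⁻¹ :=
      congrArg Subtype.val (Prod.ext_iff.mp e).2
    rw [e1] at e2
    exact mul_right_cancel e2
  have hle := Nat.card_le_card_of_injective Ψ hΨ
  rw [Nat.card_prod] at hle
  have hCidx : C.index ≤ 2 := by
    have h1 : Nat.card C * C.index ≤ Nat.card C * 2 := by
      rw [C.card_mul_index]
      exact hle.trans (Nat.mul_le_mul_left _ hfix)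
    exact Nat.le_of_mul_le_mul_left h1 Nat.card_pos
  have hCtop : C = ⊤ := by
    have hne0 : C.index ≠ 0 := Subgroup.index_ne_zero_of_finite
    rcases Nat.lt_or_ge C.index 2 with h | h
    · exact Subgroup.index_eq_one.mp (by omega)
    exfalso
    have h2 : C.index = 2 := by omega
    obtain ⟨x, hx⟩ : ∃ x, x ∉ C := by
      by_contra! hall
      rw [show C = ⊤ from eq_top_iff.mpr fun x _ => hall x, Subgroup.index_top] at h2
      exact absurd h2 (by norm_num)
    exact Nat.not_even_iff_odd.mpr hodd (even_finrank_of_involution hp2 D hDcomm hDirr x hx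
      (Subgroup.mul_self_mem_of_index_two h2 x))
  rw [hCtop] at hCcyc
  exact Subgroup.topEquiv.isCyclic.mp hCcyc

universe u

variable {α : Type u} [Fintype α] [DecidableEq α] {G : Subgroup (Equiv.Perm α)} {i o e : α}
  {T : Subgroup G} {p j : ℕ}

/-- For odd exponent the two-point stabiliser is cyclic and inverted by the involution. -/
theorem stab_inverted (S : Sharp3 G) (D : TransData G i T p j) (hp2 : p ≠ 2) (hj : Odd j) (hio : i ≠ o)
    (hie : i ≠ e) (hoe : o ≠ e) {w : G} (hwi : w • i = o) (hwo : w • o = i) (hwe : w • e = e) :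
    (∀ g k : G, g • i = i → g • o = o → k • i = i → k • o = o → g * k = k * g) ∧
      ∀ g : G, g • i = i → g • o = o → w * g * w = g⁻¹ := by
  classical
  haveI := Fact.mk D.prime
  have heven : Even (Fintype.card α) := by
    rw [D.card]
    exact ((D.prime.odd_of_ne_two hp2).pow).add_odd odd_one
  set H₀ := stabilizer G i ⊓ stabilizer G o with hH₀
  obtain ⟨V, iV, iM, iF, iN, Hl, π, τ, hreg, hdim, hτT, hτs, hτi, hτadd, hτop⟩ := linear_model S D (o := o) hio
  haveI := finite_group (H := Hl)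
  have hu := uniqueThree_of_model S heven hio hie hoe π
  have memH : ∀ {g : G}, g ∈ H₀ → g • i = i ∧ g • o = o := fun hg => Subgroup.mem_inf.mp hg
  have hww : w * w = 1 := S.fix _ i o e hio hie hoe (by rw [mul_smul, hwi, hwo])
    (by rw [mul_smul, hwo, hwi]) (by rw [mul_smul, hwe, hwe])
  have hwinv : w⁻¹ = w := inv_eq_of_mul_eq_one_right hww
  have hwH : ∀ g ∈ H₀, w * g * w ∈ H₀ := fun g hg => Subgroup.mem_inf.mpr
    ⟨by rw [mem_stabilizer_iff, mul_smul, mul_smul, hwi, (memH hg).2, hwo],
     by rw [mem_stabilizer_iff, mul_smul, mul_smul, hwo, (memH hg).1, hwi]⟩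
  have hwwl : ∀ g : G, w * (w * g * w) * w = g := fun g => by
    rw [show w * (w * g * w) * w = (w * w) * g * (w * w) by group, hww, one_mul, mul_one]
  let σ₀ : MulAut H₀ :=
    { toFun := fun g => ⟨w * g * w, hwH g g.2⟩
      invFun := fun g => ⟨w * g * w, hwH g g.2⟩
      left_inv := fun g => Subtype.ext (hwwl g)
      right_inv := fun g => Subtype.ext (hwwl g)
      map_mul' := fun g k => Subtype.ext (by
        show w * ((g : G) * k) * w = (w * g * w) * (w * k * w)
        rw [show (w * (g : G) * w) * (w * k * w) = w * g * (w * w) * k * w by group, hww, mul_one]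
        group) }
  let σ : MulAut Hl := (π.symm.trans σ₀).trans π
  have hσπ : ∀ x : Hl, (π.symm (σ x) : G) = w * π.symm x * w := fun x => by
    show ((π.symm (π (σ₀ (π.symm x))) : H₀) : G) = _
    rw [π.symm_apply_apply]; rfl
  have hσ : ∀ x, σ (σ x) = x := fun x => π.symm.injective (Subtype.ext (by rw [hσπ, hσπ, hwwl]))
  -- coordinates
  let pt : V → α := fun v => τ v • o
  have hptop : ∀ (x : Hl) (v : V), pt (op x v) = (π.symm x : G) • pt v := fun x v => by
    show τ (op x v) • o = _
    conv_lhs => rw [← π.apply_symm_apply x]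
    rw [hτop, D.conj_smul_base (memH (π.symm x).2).2]
  have hτ0 : τ 0 = 1 := by
    have h := hτadd 0 0
    rw [add_zero] at h
    exact right_eq_mul.mp h
  have hpti : Function.Injective pt := fun a b h => hτi (D.translate_inj hio.symm (hτT a) (hτT b) h)
  obtain ⟨t₁, ht₁, ht₁e⟩ := D.exists_eq o e hio.symm hie.symm
  obtain ⟨v₁, rfl⟩ := hτs t₁ ht₁
  have hv₁ : v₁ ≠ 0 := fun h => hoe (by rw [← ht₁e, h, hτ0, one_smul])
  have hpte : pt v₁ = e := ht₁e
  have hfixw : Nat.card {x : Hl // σ x = x} ≤ 2 := by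
    have h1 : ∀ x : Hl, σ x = x → w • pt (op x v₁) = pt (op x v₁) := fun x hx => by
      rw [hptop, hpte]
      nth_rewrite 2 [← hx]
      rw [hσπ, mul_smul, mul_smul, hwe]
    have h2 : (Finset.univ.filter fun y : α => w • y = y).card ≤ 2 := by
      by_contra hlt
      obtain ⟨a, ha, b, hb, c, hc, hab, hac, hbc⟩ := Finset.two_lt_card.mp (not_le.mp hlt)
      simp only [Finset.mem_filter, Finset.mem_univ, true_and] at ha hb hc
      have := S.fix w a b c hab hac hbc ha hb hc
      rw [this, one_smul] at hwi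
      exact hio hwi
    refine le_trans ?_ h2
    rw [← Fintype.card_coe, ← Nat.card_eq_fintype_card]
    refine Nat.card_le_card_of_injective
      (fun x => ⟨pt (op x.1 v₁), Finset.mem_filter.mpr ⟨Finset.mem_univ _, h1 x.1 x.2⟩⟩) ?_
    intro x y hxy
    exact Subtype.ext (eq_of_apply_eq hreg hv₁ (hpti (congrArg Subtype.val hxy)))
  have hcyc : IsCyclic Hl := cyclic_of_involution hreg hu hp2 (by rwa [hdim]) σ hσ hfixw
  letI := hcyc.commGroup
  have hcomm : ∀ a b : Hl, a * b = b * a := fun a b => mul_comm a b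
  -- inversion
  have hinv : ∀ x : Hl, σ x = x⁻¹ := by
    obtain ⟨g, hg⟩ := hcyc.exists_generator
    suffices hgg : σ g * g = 1 by
      intro x
      obtain ⟨m, rfl⟩ := hg x
      show σ (g ^ m) = (g ^ m)⁻¹
      rw [map_zpow, eq_inv_of_mul_eq_one_left hgg, inv_zpow]
    set x := σ g * g with hx
    by_contra hx1
    have hσx : σ x = x := by rw [hx, map_mul, hσ, hcomm]
    have hxx : x * x = 1 := by
      by_contra hxx
      have hinj : Function.Injective (fun b : Fin 3 => (⟨x ^ (b : ℕ), by rw [map_pow, hσx]⟩ : {y : Hl // σ y = y})) := by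
        intro a b h
        have h' : x ^ (a : ℕ) = x ^ (b : ℕ) := congrArg Subtype.val h
        refine Fin.ext (pow_injOn_Iio_orderOf ?_ ?_ h')
        all_goals
          refine lt_of_lt_of_le (Fin.is_lt _) ?_
          by_contra hlt
          have hpos := orderOf_pos x
          have : orderOf x = 1 ∨ orderOf x = 2 := by omega
          rcases this with h | h
          · exact hx1 (orderOf_eq_one_iff.mp h)
          · exact hxx (by rw [← pow_two, ← h, pow_orderOf_eq_one])
      have := Nat.card_le_card_of_injective _ hinj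
      rw [Nat.card_fin] at this
      omega
    have hnegx : ∀ v, op x v = -v := fun v => by
      by_contra hne
      have h0 : op x v + v ≠ 0 := fun h => hne (eq_neg_of_add_eq_zero_left h)
      exact hx1 (eq_one_of_fixed hreg h0 (by
        rw [map_add, ← Module.End.mul_apply, ← op_mul, hxx, op_one, Module.End.one_apply, add_comm]))
    -- `x` is the square of a power of `g`
    obtain ⟨a, ha⟩ := (isOfFinOrder_of_finite g).mem_powers_iff_mem_zpowers.mpr (hg x)
    have ha' : g ^ a = x := ha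
    have hgord : orderOf g = Nat.card Hl := orderOf_eq_card_of_forall_mem_zpowers hg
    have hn : Nat.card Hl = p ^ j - 1 := hdim ▸ natCard_group hreg
    have hσg : σ g = x * g⁻¹ := by rw [hx, mul_inv_cancel_right]
    have haeven : Even a := by
      by_contra hodd
      rw [Nat.not_even_iff_odd] at hodd
      obtain ⟨b, rfl⟩ := hodd
      refine hx1 ?_
      have e : σ x = x ^ (2 * b + 1) * x⁻¹ := by
        conv_lhs => rw [← ha', map_pow, hσg, mul_pow, inv_pow, ha']
      rw [hσx, pow_succ, pow_mul, pow_two, hxx, one_pow, one_mul, mul_inv_cancel] at e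
      exact e
    obtain ⟨b', rfl⟩ := haeven
    have hxsq : x = g ^ (2 * b') := by rw [← ha', two_mul]
    have hxinv : x⁻¹ = x := inv_eq_of_mul_eq_one_right hxx
    have hσsq : ∀ m : ℕ, σ (g ^ (2 * m)) = (g ^ (2 * m))⁻¹ := fun m => by
      rw [map_pow, hσg, mul_pow, pow_mul, pow_two, hxx, one_pow, one_mul, inv_pow]
    have hσnsq : ∀ m : ℕ, σ (g ^ (2 * m + 1)) = x * (g ^ (2 * m + 1))⁻¹ := fun m => by
      rw [map_pow, hσg, mul_pow, pow_succ x, pow_mul, pow_two, hxx, one_pow, one_mul, inv_pow]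
    -- the braid relation
    have hwpt : ∀ y : Hl, w • pt (op y v₁) = pt (op (σ y) v₁) := fun y => by
      rw [hptop, hptop, hσπ, hpte, mul_smul, mul_smul, hwe]
    set r : G := τ v₁ * (π.symm x : G) with hr
    have hrpt : ∀ v, r • pt v = pt (v₁ - v) := fun v => by
      rw [hr, mul_smul, ← hptop, hnegx]
      show τ v₁ • τ (-v) • o = τ (v₁ - v) • o
      rw [sub_eq_add_neg, hτadd, mul_smul]
    have hri : r • i = i := by rw [hr, mul_smul, (memH (π.symm x).2).1, D.fix _ (hτT v₁)]
    have hpt0 : pt 0 = o := by show τ 0 • o = o; rw [hτ0, one_smul]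
    have hro : r • o = e := by rw [← hpt0, hrpt, sub_zero, hpte]
    have hre : r • e = o := by rw [← hpte, hrpt, sub_self, hpt0]
    have hbraid : w * r * w = r * w * r := by
      refine inv_mul_eq_one.mp (S.fix _ i o e hio hie hoe ?_ ?_ ?_)
      all_goals
        rw [mul_smul, inv_smul_eq_iff]
        simp only [mul_smul, hwi, hwo, hwe, hri, hro, hre]
    have hsq : ∀ m : ℕ, g ^ (2 * m) ≠ 1 → ∃ m', v₁ - op (g ^ (2 * m)) v₁ = op (g ^ (2 * m')) v₁ := by
      intro m hm
      set h := g ^ (2 * m) with hh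
      have hne : v₁ - op h v₁ ≠ 0 := fun e => hm (eq_one_of_fixed hreg hv₁ (sub_eq_zero.mp e).symm)
      obtain ⟨k, hk, -⟩ := hreg v₁ _ hv₁ hne
      have hk' : op k v₁ = v₁ - op h v₁ := hk
      obtain ⟨n, hn'⟩ := (isOfFinOrder_of_finite g).mem_powers_iff_mem_zpowers.mpr (hg k)
      rcases Nat.even_or_odd n with ⟨m', rfl⟩ | ⟨m', rfl⟩
      · exact ⟨m', by rw [← hk', two_mul, ← hn']⟩
      exfalso
      have hk2 : g ^ (2 * m' + 1) = k := hn'
      have hσk : σ k = x * k⁻¹ := hk2 ▸ hσnsq m'
      have hσh : σ h = h⁻¹ := hσsq m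
      have hσh' : σ h⁻¹ = h := by rw [map_inv, hσh, inv_inv]
      have e1 : v₁ - op h⁻¹ v₁ = op (h⁻¹ * x * k) v₁ := by
        rw [op_mul, op_mul, Module.End.mul_apply, Module.End.mul_apply, hk', hnegx, neg_sub, map_sub,
          ← Module.End.mul_apply, ← op_mul, inv_mul_cancel, op_one, Module.End.one_apply]
      have e2 : σ (h⁻¹ * x * k) = h * k⁻¹ := by
        rw [map_mul, map_mul, hσh', hσx, hσk, mul_assoc h, ← mul_assoc x, hxx, one_mul]
      have hbr := congrArg (fun z : G => z • pt (op h v₁)) hbraid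
      simp only [mul_smul] at hbr
      rw [hwpt, hσh, hrpt, e1, hwpt, e2, hrpt, ← hk', hwpt, hσk, hrpt] at hbr
      have h3 : op (h * k⁻¹) v₁ = v₁ - op (x * k⁻¹) v₁ := hpti hbr
      have h4 := congrArg (op k) h3
      rw [← Module.End.mul_apply, ← op_mul, map_sub, ← Module.End.mul_apply, ← op_mul, hk',
        show k * (h * k⁻¹) = h by rw [hcomm h, mul_inv_cancel_left],
        show k * (x * k⁻¹) = x by rw [hcomm x, mul_inv_cancel_left], hnegx] at h4
      have h5 : (2 : ZMod p) • (v₁ - op h v₁) = 0 := by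
        rw [two_smul]
        nth_rewrite 2 [h4]
        abel
      have h20 : (2 : ZMod p) ≠ 0 := fun h4 => hp2 (by
        have h5 : ((2 : ℕ) : ZMod p) = 0 := by exact_mod_cast h4
        rw [ZMod.natCast_eq_zero_iff] at h5
        exact (Nat.prime_dvd_prime_iff_eq (Fact.out) Nat.prime_two).mp h5)
      exact hne ((smul_eq_zero.mp h5).resolve_left h20)
    -- the squares with zero form a subgroup
    let Sq := Subgroup.zpowers (g ^ 2)
    have memSq : ∀ y, y ∈ Sq ↔ ∃ m : ℕ, y = g ^ (2 * m) := fun y => by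
      constructor
      · intro hy
        obtain ⟨m, hm⟩ := (isOfFinOrder_of_finite (g ^ 2)).mem_powers_iff_mem_zpowers.mpr hy
        exact ⟨m, hm.symm.trans (pow_mul g 2 m).symm⟩
      · rintro ⟨m, rfl⟩
        rw [pow_mul]; exact Subgroup.pow_mem _ (Subgroup.mem_zpowers _) m
    let f : Option Sq → V := fun a => a.elim 0 (fun y => op (y : Hl) v₁)
    have hfne : ∀ y : Hl, op y v₁ ≠ 0 := fun y e => hv₁ (by
      rw [op_apply] at e
      exact (y : V ≃ₗ[ZMod p] V).map_eq_zero_iff.mp e)
    have hf : Function.Injective f := by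
      intro a b hab
      match a, b with
      | none, none => rfl
      | some a, none => exact absurd hab (hfne _)
      | none, some b => exact absurd hab.symm (hfne _)
      | some a, some b => exact congrArg some (Subtype.ext (eq_of_apply_eq hreg hv₁ hab))
    have hsubmem : ∀ a b : Option Sq, f a - f b ∈ Set.range f := by
      intro a b
      match a, b with
      | a, none => exact ⟨a, (sub_zero _).symm⟩
      | none, some b =>
        refine ⟨some ⟨x * (b : Hl), Sq.mul_mem ((memSq x).mpr ⟨b', hxsq⟩) b.2⟩, ?_⟩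
        show op (x * (b : Hl)) v₁ = 0 - op (b : Hl) v₁
        rw [op_mul, Module.End.mul_apply, hnegx, zero_sub]
      | some a, some b =>
        by_cases hab : a = b
        · exact ⟨none, by rw [hab, sub_self]; rfl⟩
        obtain ⟨m, hm⟩ := (memSq _).mp (Sq.mul_mem (Sq.inv_mem a.2) b.2)
        obtain ⟨m', hm'⟩ := hsq m (fun e => hab (Subtype.ext (inv_mul_eq_one.mp (hm.trans e))))
        refine ⟨some ⟨(a : Hl) * g ^ (2 * m'), Sq.mul_mem a.2 ((memSq _).mpr ⟨m', rfl⟩)⟩, ?_⟩
        show op ((a : Hl) * g ^ (2 * m')) v₁ = op (a : Hl) v₁ - op (b : Hl) v₁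
        rw [op_mul, Module.End.mul_apply, ← hm', map_sub, ← hm, ← Module.End.mul_apply, ← op_mul,
          mul_inv_cancel_left]
    let U : AddSubgroup V := AddSubgroup.ofSub (Set.range f) ⟨0, none, rfl⟩ (by
      rintro _ ⟨a, rfl⟩ _ ⟨b, rfl⟩
      rw [← sub_eq_add_neg]
      exact hsubmem a b)
    have hU : Nat.card U = Nat.card Sq + 1 := by
      show Nat.card (Set.range f) = _
      rw [Nat.card_range_of_injective hf, Finite.card_option]
    have hdvd : Nat.card U ∣ p ^ j := by
      rw [← hdim, ← natCard_space]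
      exact AddSubgroup.card_addSubgroup_dvd_card U
    have hne2 : 2 ∣ Nat.card Hl := by
      rw [hn]
      exact even_iff_two_dvd.mp (Nat.Odd.sub_odd ((D.prime.odd_of_ne_two hp2).pow) odd_one)
    have hSq : Nat.card Sq * 2 = p ^ j - 1 := by
      rw [← hn, Nat.card_zpowers, orderOf_pow' g two_ne_zero, hgord, Nat.gcd_eq_right hne2,
        Nat.div_mul_cancel hne2]
    have hpj : 1 ≤ p ^ j := Nat.one_le_pow _ _ D.prime.pos
    have hd1 : Nat.card U ∣ 1 := by
      have h2 : Nat.card U ∣ p ^ j + 1 := ⟨2, by omega⟩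
      exact (Nat.dvd_add_right hdvd).mp h2
    have := Nat.le_of_dvd one_pos hd1
    have : 0 < Nat.card Sq := Nat.card_pos
    omega
  have toHl : ∀ g : G, g • i = i → g • o = o → ∃ x : Hl, (π.symm x : G) = g := fun g gi go =>
    ⟨π ⟨g, Subgroup.mem_inf.mpr ⟨gi, go⟩⟩, by rw [π.symm_apply_apply]⟩
  constructor
  · intro g k gi go ki ko
    obtain ⟨x, rfl⟩ := toHl g gi go
    obtain ⟨y, rfl⟩ := toHl k ki ko
    rw [← Subgroup.coe_mul, ← Subgroup.coe_mul, ← map_mul, ← map_mul, hcomm]
  · intro g gi go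
    obtain ⟨x, rfl⟩ := toHl g gi go
    rw [← hσπ, hinv, map_inv, Subgroup.coe_inv]

end Cfsg.Agent.PermGp.S3Even
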